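import Mathlib
import Groth.Agent.S0582

/-!
# Big projective modules (after Bass): unimodular elements
-/

namespace Groth.Agent.Helper9.BigProj

universe u v

variable {R : Type u} [CommRing R]

/-- A projective module which is not finitely generated at the maximal ideal `𝔪` is not generated
modulo `𝔪` by finitely many elements. -/
theorem span_sup_smul_ne_top {P : Type u} [AddCommGroup P] [Module R P] [Module.Projective R P] (𝔪 : Ideal R) [𝔪.IsMaximal]
    (hP : ¬ Module.Finite (Localization.AtPrime 𝔪) (LocalizedModule 𝔪.primeCompl P))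
    (t : Finset P) : Submodule.span R (t : Set P) ⊔ 𝔪 • (⊤ : Submodule R P) ≠ ⊤ := by
  classical
  intro htop
  apply hP
  set Rm := Localization.AtPrime 𝔪
  set Pm := LocalizedModule 𝔪.primeCompl P
  set f : P →ₗ[R] Pm := LocalizedModule.mkLinearMap 𝔪.primeCompl P with hf
  have hfree : Module.Free Rm Pm := Groth.Agent.S0582.result Rm Pm
  let b := Module.Free.chooseBasis Rm Pm
  set ι₀ : Finset (Module.Free.ChooseBasisIndex Rm Pm) :=
    t.biUnion (fun x => (b.repr (f x)).support) with hι₀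
  -- coordinates of elements of `𝔪 P` lie in the maximal ideal
  have hcoord : ∀ w ∈ 𝔪 • (⊤ : Submodule R P), ∀ i,
      b.repr (f w) i ∈ IsLocalRing.maximalIdeal Rm := by
    intro w hw i
    refine Submodule.smul_induction_on hw ?_ ?_
    · intro a ha y _
      rw [map_smul, ← algebraMap_smul Rm a (f y), map_smul, Finsupp.smul_apply, smul_eq_mul]
      exact Ideal.mul_mem_right _ _
        ((IsLocalization.AtPrime.to_map_mem_maximal_iff Rm 𝔪 a).mpr ha)
    · intro x y hx hy
      rw [map_add, map_add, Finsupp.add_apply]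
      exact Ideal.add_mem _ hx hy
  have hspan : ∀ z ∈ Submodule.span R (t : Set P), ∀ i ∉ ι₀, b.repr (f z) i = 0 := by
    intro z hz i hi
    induction hz using Submodule.span_induction with
    | mem x hx =>
      by_contra hne
      exact hi (Finset.mem_biUnion.mpr ⟨x, hx, Finsupp.mem_support_iff.mpr hne⟩)
    | zero => simp
    | add x y _ _ hx hy => rw [map_add, map_add, Finsupp.add_apply, hx, hy, add_zero]
    | smul a x _ hx =>
      rw [map_smul, ← algebraMap_smul Rm a (f x), map_smul, Finsupp.smul_apply, hx, smul_zero]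
  have hall : ∀ i, i ∈ ι₀ := by
    intro i
    by_contra hi
    obtain ⟨⟨z, σ⟩, hz⟩ := IsLocalizedModule.surj 𝔪.primeCompl f (b i)
    have hzmem : z ∈ Submodule.span R (t : Set P) ⊔ 𝔪 • (⊤ : Submodule R P) := by
      rw [htop]; trivial
    obtain ⟨z₁, hz₁, z₂, hz₂, rfl⟩ := Submodule.mem_sup.mp hzmem
    have h1 := congrArg (fun y => b.repr y i) hz
    simp only at h1
    rw [map_add, map_add, Finsupp.add_apply, hspan z₁ hz₁ i hi, zero_add] at h1
    have h2 : b.repr (σ • b i) i = algebraMap R Rm σ := by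
      rw [Submonoid.smul_def, ← algebraMap_smul Rm (σ : R) (b i), map_smul, Finsupp.smul_apply,
        b.repr_self, Finsupp.single_eq_same, smul_eq_mul, mul_one]
    rw [h2] at h1
    have h3 := hcoord z₂ hz₂ i
    rw [← h1, IsLocalization.AtPrime.to_map_mem_maximal_iff Rm 𝔪] at h3
    exact σ.2 h3
  have : Finite (Module.Free.ChooseBasisIndex Rm Pm) :=
    Finite.of_injective (fun i => (⟨i, hall i⟩ : ι₀)) (fun i j hij => by
      simpa using congrArg Subtype.val hij)
  exact Module.Finite.of_basis b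

variable {P : Type v} [AddCommGroup P] [Module R P]

/-- the order ideal of an element -/
def ordI (x : P) : Ideal R := LinearMap.range (LinearMap.applyₗ x : Module.Dual R P →ₗ[R] R)

theorem mem_ordI {x : P} {r : R} : r ∈ ordI x ↔ ∃ φ : Module.Dual R P, φ x = r := Iff.rfl

/-- an element whose order ideal is the unit ideal modulo the Jacobson radical is unimodular -/
theorem exists_dual_eq_one_of_map_ordI_eq_top (x : P)
    (h : (ordI x).map (Ideal.Quotient.mk (⊥ : Ideal R).jacobson) = ⊤) :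
    ∃ φ : Module.Dual R P, φ x = 1 := by
  have h1 : (1 : R ⧸ (⊥ : Ideal R).jacobson) ∈
      (ordI x).map (Ideal.Quotient.mk (⊥ : Ideal R).jacobson) := by rw [h]; trivial
  rw [Ideal.mem_map_iff_of_surjective _ Ideal.Quotient.mk_surjective] at h1
  obtain ⟨r, ⟨φ, rfl⟩, hr⟩ := h1
  have hr' : Ideal.Quotient.mk (⊥ : Ideal R).jacobson (φ x) = 1 := hr
  have h2 : φ x - 1 ∈ (⊥ : Ideal R).jacobson := by
    rw [← Ideal.Quotient.eq_zero_iff_mem, map_sub, hr', map_one, sub_self]
  have h3 : IsUnit (φ x) := by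
    have := (Ideal.mem_jacobson_bot.mp h2) 1
    simpa using this
  obtain ⟨u, hu⟩ := h3
  refine ⟨(↑u⁻¹ : R) • φ, ?_⟩
  rw [LinearMap.smul_apply, ← hu, smul_eq_mul, Units.inv_mul]

/-- `P` is *big*: modulo every maximal ideal it is not generated by finitely many elements. -/
def Big (R : Type*) [CommRing R] (P : Type*) [AddCommGroup P] [Module R P] : Prop :=
  ∀ (𝔪 : Ideal R) [𝔪.IsMaximal] (t : Finset P),
    Submodule.span R (t : Set P) ⊔ 𝔪 • (⊤ : Submodule R P) ≠ ⊤

theorem big_of_not_finite {P : Type u} [AddCommGroup P] [Module R P] [Module.Projective R P]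
    (hP : ∀ (m : Ideal R) [m.IsMaximal],
      ¬ Module.Finite (Localization.AtPrime m) (LocalizedModule m.primeCompl P)) : Big R P :=
  fun 𝔪 _ t => span_sup_smul_ne_top 𝔪 (hP 𝔪) t

/-- **Bass**: in a big projective module over a ring which is Noetherian modulo its radical, any
element `s` can be moved inside `s + M` to a unimodular element as soon as `R s + M = P`. -/
theorem exists_add_mem_unimodular_of_big
    [IsNoetherianRing (R ⧸ (⊥ : Ideal R).jacobson)]
    [Module.Projective R P] (hB : Big R P)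
    (s : P) (M : Submodule R P) (hM : Submodule.span R {s} ⊔ M = ⊤) :
    ∃ m ∈ M, ∃ φ : P →ₗ[R] R, φ (s + m) = 1 := by
  classical
  set J := (⊥ : Ideal R).jacobson with hJ
  set mkJ := Ideal.Quotient.mk J with hmkJ
  let O : P → Ideal (R ⧸ J) := fun x => (ordI x).map mkJ
  obtain ⟨I, ⟨m₀, hm₀, rfl⟩, hmax⟩ := set_has_maximal_iff_noetherian.mpr
    (inferInstance : IsNoetherian (R ⧸ J) (R ⧸ J)) {I | ∃ m ∈ M, I = O (s + m)}
    ⟨O (s + 0), 0, M.zero_mem, rfl⟩
  set x := s + m₀ with hx
  clear_value x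
  by_cases htop : O x = ⊤
  · obtain ⟨φ, hφ⟩ := exists_dual_eq_one_of_map_ordI_eq_top x htop
    exact ⟨m₀, hm₀, φ, by rw [← hx]; exact hφ⟩
  exfalso
  obtain ⟨𝔪', h𝔪', hle⟩ := Ideal.exists_le_maximal (O x) htop
  set 𝔪 : Ideal R := 𝔪'.comap mkJ with h𝔪
  have h𝔪max : 𝔪.IsMaximal := Ideal.comap_isMaximal_of_surjective mkJ Ideal.Quotient.mk_surjective
  have hJ𝔪 : J ≤ 𝔪 := by
    intro a ha
    rw [h𝔪, Ideal.mem_comap, Ideal.Quotient.eq_zero_iff_mem.mpr ha]
    exact 𝔪'.zero_mem
  -- dual basis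
  obtain ⟨s₀, hs₀⟩ := Module.projective_def'.mp (inferInstance : Module.Projective R P)
  let φ_ : P → Module.Dual R P := fun p => Finsupp.lapply p ∘ₗ s₀
  have hφ_ : ∀ p z, φ_ p z = s₀ z p := fun p z => rfl
  have hexp : ∀ z : P, z = ∑ p ∈ (s₀ z).support, (s₀ z p) • p := by
    intro z
    have := LinearMap.congr_fun hs₀ z
    simp only [LinearMap.coe_comp, Function.comp_apply, LinearMap.id_coe, id_eq,
      Finsupp.linearCombination_apply] at this
    conv_lhs => rw [← this]
    rfl
  set Λ₀ := (s₀ x).support with hΛ₀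
  let Φ : P →ₗ[R] (Λ₀ → R ⧸ J) := LinearMap.pi (fun l => (Submodule.mkQ J) ∘ₗ φ_ l)
  have hΦ : ∀ z (l : Λ₀), Φ z l = mkJ (s₀ z l) := fun z l => rfl
  have hfg : (Submodule.span (R ⧸ J) (Φ '' (M : Set P))).FG := IsNoetherian.noetherian _
  obtain ⟨t', ht'sub, ht'span⟩ := (Submodule.fg_span_iff_fg_span_finset_subset _).mp hfg
  have hpre : ∀ y ∈ t', ∃ m ∈ M, Φ m = y := fun y hy => ht'sub hy
  choose! g hgM hgΦ using hpre
  let t : Finset P := insert s (t'.image g)
  have hne := hB 𝔪 t
  have hy : ∃ y ∈ M, Φ y = 0 ∧ y ∉ 𝔪 • (⊤ : Submodule R P) := by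
    by_contra hcon
    push Not at hcon
    apply hne
    have hle' : Submodule.span R {s} ⊔ M ≤
        Submodule.span R (t : Set P) ⊔ 𝔪 • (⊤ : Submodule R P) := ?_
    · rw [hM] at hle'
      exact eq_top_iff.mpr hle'
    apply sup_le
    · exact le_sup_of_le_left (Submodule.span_mono (by simp [t]))
    · intro z hz
      have h1 : Φ z ∈ Submodule.span (R ⧸ J) (t' : Set (Λ₀ → R ⧸ J)) := by
        rw [← ht'span]; exact Submodule.subset_span ⟨z, hz, rfl⟩
      rw [Submodule.mem_span_finset] at h1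
      obtain ⟨c, -, hc⟩ := h1
      let c' : (Λ₀ → R ⧸ J) → R := fun y => (Ideal.Quotient.mk_surjective (c y)).choose
      have hc' : ∀ y, mkJ (c' y) = c y := fun y => (Ideal.Quotient.mk_surjective (c y)).choose_spec
      set z' := z - ∑ y ∈ t', c' y • g y with hz'
      have hz'M : z' ∈ M := M.sub_mem hz (M.sum_mem fun y hy => M.smul_mem _ (hgM y hy))
      have hz'Φ : Φ z' = 0 := by
        rw [hz', map_sub, map_sum, sub_eq_zero, ← hc]
        apply Finset.sum_congr rfl
        intro y hy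
        rw [map_smul, hgΦ y hy, ← hc' y]
        rfl
      have hz'𝔪 := hcon z' hz'M hz'Φ
      have hz : z = z' + ∑ y ∈ t', c' y • g y := by rw [hz']; abel
      rw [hz]
      refine Submodule.add_mem _ (Submodule.mem_sup_right hz'𝔪) (Submodule.mem_sup_left ?_)
      refine Submodule.sum_mem _ fun y hy => Submodule.smul_mem _ _ (Submodule.subset_span ?_)
      simp only [t, Finset.coe_insert, Finset.coe_image, Set.mem_insert_iff, Set.mem_image,
        Finset.mem_coe]
      exact Or.inr ⟨y, hy, rfl⟩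
  obtain ⟨y, hyM, hyΦ, hy𝔪⟩ := hy
  -- a coordinate of `y` outside `𝔪`
  have hμ : ∃ μ : P, s₀ y μ ∉ 𝔪 := by
    by_contra hcon
    push Not at hcon
    apply hy𝔪
    rw [hexp y]
    exact Submodule.sum_mem _ fun p _ => Submodule.smul_mem_smul (hcon p) trivial
  obtain ⟨μ, hμ⟩ := hμ
  have hμΛ : μ ∉ Λ₀ := by
    intro hmem
    have := congrFun hyΦ ⟨μ, hmem⟩
    rw [hΦ, Pi.zero_apply, Ideal.Quotient.eq_zero_iff_mem] at this
    exact hμ (hJ𝔪 this)
  have hμx : s₀ x μ = 0 := Finsupp.notMem_support_iff.mp hμΛ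
  have hyM' : m₀ + y ∈ M := M.add_mem hm₀ hyM
  have hx' : s + (m₀ + y) = x + y := by rw [hx]; abel
  have hlt : O x < O (s + (m₀ + y)) := by
    rw [hx']
    refine lt_of_le_of_ne ?_ ?_
    · -- O x ≤ O (x + y)
      show (ordI x).map mkJ ≤ (ordI (x + y)).map mkJ
      rw [Ideal.map_le_iff_le_comap]
      rintro r ⟨φ, rfl⟩
      rw [Ideal.mem_comap]
      have h1 : (LinearMap.applyₗ x) φ = ∑ p ∈ Λ₀, (s₀ x p) • φ p := by
        show φ x = _
        conv_lhs => rw [hexp x]
        rw [map_sum]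
        exact Finset.sum_congr rfl fun p _ => by rw [map_smul]
      rw [h1, map_sum]
      refine Ideal.sum_mem _ fun p hp => ?_
      rw [smul_eq_mul, map_mul]
      refine Ideal.mul_mem_right _ _ ?_
      have h2 : mkJ (s₀ x p) = mkJ (φ_ p (x + y)) := by
        rw [hφ_, map_add, Finsupp.add_apply, map_add]
        have := congrFun hyΦ ⟨p, hp⟩
        rw [hΦ, Pi.zero_apply] at this
        rw [this, add_zero]
      rw [h2]
      exact Ideal.mem_map_of_mem _ ⟨φ_ p, rfl⟩
    · intro heq
      have h1 : mkJ (φ_ μ (x + y)) ∈ O (x + y) := Ideal.mem_map_of_mem _ ⟨φ_ μ, rfl⟩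
      rw [← heq] at h1
      have h2 := hle h1
      rw [hφ_, map_add, Finsupp.add_apply, hμx, zero_add] at h2
      exact hμ h2
  exact hmax _ ⟨m₀ + y, hyM', rfl⟩ hlt

/-- **Bass**: the same statement with bigness expressed through localizations. -/
theorem exists_add_mem_unimodular {P : Type u} [AddCommGroup P] [Module R P]
    [IsNoetherianRing (R ⧸ (⊥ : Ideal R).jacobson)]
    [Module.Projective R P]
    (hP : ∀ (m : Ideal R) [m.IsMaximal],
      ¬ Module.Finite (Localization.AtPrime m) (LocalizedModule m.primeCompl P))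
    (s : P) (M : Submodule R P) (hM : Submodule.span R {s} ⊔ M = ⊤) :
    ∃ m ∈ M, ∃ φ : P →ₗ[R] R, φ (s + m) = 1 :=
  exists_add_mem_unimodular_of_big (big_of_not_finite hP) s M hM

end Groth.Agent.Helper9.BigProj
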