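import Mathlib
import Groth.Agent.Lib.Helper9.BigProj.Basic
import Groth.Agent.Lib.Helper9.BasicElt.Split
import Groth.Agent.S7109

/-!
# Big projective modules: finite stably free summands containing a given element
-/

namespace Groth.Agent.Helper9.BigProj

open Groth.Agent.Helper9.BasicElt

universe u v w

variable {R : Type u} [CommRing R]

section big

variable {E : Type v} [AddCommGroup E] [Module R E] {P : Type w} [AddCommGroup P] [Module R P]

theorem Big.of_surjective (g : E →ₗ[R] P) (hg : Function.Surjective g) (h : Big R P) :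
    Big R E := by
  classical
  intro 𝔪 _ t htop
  apply h 𝔪 (t.image g)
  have h1 : Submodule.map g (Submodule.span R (t : Set E) ⊔ 𝔪 • (⊤ : Submodule R E)) =
      Submodule.span R ((t.image g : Finset P) : Set P) ⊔ 𝔪 • (⊤ : Submodule R P) := by
    rw [Submodule.map_sup, Submodule.map_span, Submodule.map_smul'', Submodule.map_top,
      LinearMap.range_eq_top.mpr hg, Finset.coe_image]
  rw [← h1, htop, Submodule.map_top, LinearMap.range_eq_top.mpr hg]

theorem Big.of_prod_right {A : Type v} [AddCommGroup A] [Module R A] [Module.Finite R A]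
    (h : Big R (A × P)) : Big R P := by
  classical
  intro 𝔪 _ t htop
  obtain ⟨gA, hgA⟩ := (Module.Finite.fg_top : (⊤ : Submodule R A).FG)
  apply h 𝔪 (gA.image (LinearMap.inl R A P) ∪ t.image (LinearMap.inr R A P))
  rw [eq_top_iff]
  rintro ⟨a, b⟩ -
  have hab : ((a, b) : A × P) = LinearMap.inl R A P a + LinearMap.inr R A P b := by simp
  rw [hab]
  apply Submodule.add_mem
  · apply Submodule.mem_sup_left
    have ha : a ∈ Submodule.span R (gA : Set A) := by rw [hgA]; trivial
    have := Submodule.mem_map_of_mem (f := LinearMap.inl R A P) ha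
    rw [Submodule.map_span] at this
    refine Submodule.span_mono ?_ this
    intro x hx
    simp only [Finset.coe_union, Finset.coe_image, Set.mem_union]
    exact Or.inl hx
  · have hb : b ∈ Submodule.span R (t : Set P) ⊔ 𝔪 • (⊤ : Submodule R P) := by
      rw [htop]; trivial
    have := Submodule.mem_map_of_mem (f := LinearMap.inr R A P) hb
    rw [Submodule.map_sup, Submodule.map_span, Submodule.map_smul''] at this
    have hle : Submodule.span R (⇑(LinearMap.inr R A P) '' (t : Set P)) ⊔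
        𝔪 • Submodule.map (LinearMap.inr R A P) ⊤ ≤
        Submodule.span R ((gA.image (LinearMap.inl R A P) ∪ t.image (LinearMap.inr R A P) :
          Finset (A × P)) : Set (A × P)) ⊔ 𝔪 • (⊤ : Submodule R (A × P)) :=
      sup_le_sup (Submodule.span_mono ?_) (Submodule.smul_mono le_rfl le_top)
    · exact hle this
    intro x hx
    simp only [Finset.coe_union, Finset.coe_image, Set.mem_union]
    exact Or.inr hx

end big

section stablyFree

variable {M : Type v} [AddCommGroup M] [Module R M]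

theorem isStablyFree_of_prod_equiv {M₂ : Type w} [AddCommGroup M₂] [Module R M₂]
    {F : Type*} [AddCommGroup F] [Module R F] [Module.Free R F] [Module.Finite R F]
    (e : (M × F) ≃ₗ[R] M₂) [Module.IsStablyFree R M₂] : Module.IsStablyFree R M := by
  obtain ⟨N, _, _, _, _, hfree⟩ := Module.IsStablyFree.exist_free_prod R M₂
  have : Module.Free R (M × (F × N)) :=
    Module.Free.of_equiv
      ((LinearEquiv.prodAssoc R M F N).symm.trans (e.prodCongr (LinearEquiv.refl R N))).symm
  exact Module.IsStablyFree.of_free_prod R M (F × N)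

theorem isStablyFree_prod [Module.IsStablyFree R M]
    (F : Type*) [AddCommGroup F] [Module R F] [Module.Free R F] [Module.Finite R F] :
    Module.IsStablyFree R (M × F) := by
  obtain ⟨N, _, _, _, _, hfree⟩ := Module.IsStablyFree.exist_free_prod R M
  -- `(M × F) × N ≃ (M × N) × F`
  have e : ((M × N) × F) ≃ₗ[R] ((M × F) × N) :=
    (LinearEquiv.prodAssoc R M N F).trans
      (((LinearEquiv.refl R M).prodCongr (LinearEquiv.prodComm R N F)).trans
        (LinearEquiv.prodAssoc R M F N).symm)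
  have : Module.Free R ((M × F) × N) := Module.Free.of_equiv e
  exact Module.IsStablyFree.of_free_prod R (M × F) N

end stablyFree

section step

variable [IsNoetherianRing (R ⧸ (⊥ : Ideal R).jacobson)]

/-- the key step: a finite stably free summand of `R × P` containing `(0, s)` can be pushed
into `P` -/
theorem step_one {P : Type u} [AddCommGroup P] [Module R P] [Module.Projective R P]
    (hB : Big R P) (s : P)
    {A B : Type u} [AddCommGroup A] [Module R A] [AddCommGroup B] [Module R B]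
    [Module.Finite R A] [Module.IsStablyFree R A]
    (θ : (R × P) ≃ₗ[R] (A × B)) (hθ : (θ (0, s)).2 = 0) :
    ∃ (A₁ B₁ : Type u) (_ : AddCommGroup A₁) (_ : Module R A₁) (_ : AddCommGroup B₁)
      (_ : Module R B₁) (_ : Module.Finite R A₁) (_ : Module.IsStablyFree R A₁)
      (Ψ : P ≃ₗ[R] (A₁ × B₁)), (Ψ s).2 = 0 := by
  have hBproj : Module.Projective R B :=
    Module.Projective.of_split (θ.symm.toLinearMap ∘ₗ LinearMap.inr R A B)
      (LinearMap.snd R A B ∘ₗ θ.toLinearMap) (LinearMap.ext fun b => by simp)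
  have hBbig : Big R B := by
    apply Big.of_prod_right (A := A)
    refine Big.of_surjective (LinearMap.snd R R P ∘ₗ θ.symm.toLinearMap) ?_ hB
    intro y
    exact ⟨θ (0, y), by simp⟩
  let p₁' : A × B →ₗ[R] R := LinearMap.fst R R P ∘ₗ θ.symm.toLinearMap
  let α : A →ₗ[R] R := p₁' ∘ₗ LinearMap.inl R A B
  let β : B →ₗ[R] R := p₁' ∘ₗ LinearMap.inr R A B
  have hp₁' : ∀ a b, p₁' (a, b) = α a + β b := by
    intro a b
    have : ((a, b) : A × B) = LinearMap.inl R A B a + LinearMap.inr R A B b := by simp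
    rw [this, map_add]
    rfl
  set a₀ := (θ (1, 0)).1 with ha₀
  set b₀ := (θ (1, 0)).2 with hb₀
  have h1 : α a₀ + β b₀ = 1 := by
    rw [← hp₁', ha₀, hb₀]
    simp [p₁']
  let I : Submodule R R := LinearMap.range α
  let M : Submodule R B := Submodule.comap β I
  have hM : Submodule.span R {b₀} ⊔ M = ⊤ := by
    rw [eq_top_iff]
    intro z _
    have hz : z = β z • b₀ + (z - β z • b₀) := by abel
    rw [hz]
    refine Submodule.add_mem_sup (Submodule.smul_mem _ _ (Submodule.mem_span_singleton_self _)) ?_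
    show β (z - β z • b₀) ∈ I
    refine ⟨β z • a₀, ?_⟩
    rw [map_smul, map_sub, map_smul, smul_eq_mul, smul_eq_mul]
    have : α a₀ = 1 - β b₀ := by rw [← h1]; ring
    rw [this]; ring
  obtain ⟨m, hmM, φ', hφ'⟩ := exists_add_mem_unimodular_of_big hBbig b₀ M hM
  obtain ⟨a_m, ha_m⟩ : ∃ a_m, α a_m = β m := hmM
  set e' := b₀ + m with he'
  let f : R →ₗ[R] B := LinearMap.toSpanSingleton R B e'
  have hfg : φ' ∘ₗ f = LinearMap.id := by
    apply LinearMap.ext
    intro c
    simp [f, LinearMap.toSpanSingleton_apply, hφ']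
  let ρ := retractEquiv f φ' hfg
  -- `θ₂ : R × P ≃ (A × R) × Q`
  let θ₂ : (R × P) ≃ₗ[R] ((A × R) × LinearMap.ker φ') :=
    θ ≪≫ₗ (LinearEquiv.prodCongr (LinearEquiv.refl R A) (ρ ≪≫ₗ LinearEquiv.prodComm R _ _)) ≪≫ₗ
      (LinearEquiv.prodAssoc R A R (LinearMap.ker φ')).symm
  have hθ₂symm : ∀ (a : A) (c : R) (q : LinearMap.ker φ'),
      θ₂.symm ((a, c), q) = θ.symm (a, (q : B) + c • e') := by
    intro a c q
    simp [θ₂, ρ, retractEquiv, f, LinearMap.toSpanSingleton_apply]
  have hθ₂s : (θ₂ (0, s)).2 = 0 := by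
    have : θ (0, s) = ((θ (0, s)).1, 0) := Prod.ext rfl hθ
    simp only [θ₂, LinearEquiv.trans_apply]
    rw [this]
    simp [ρ, retractEquiv]
    rfl
  let γ : A × R →ₗ[R] R :=
    LinearMap.fst R R P ∘ₗ θ₂.symm.toLinearMap ∘ₗ LinearMap.inl R (A × R) (LinearMap.ker φ')
  let δ : LinearMap.ker φ' →ₗ[R] R :=
    LinearMap.fst R R P ∘ₗ θ₂.symm.toLinearMap ∘ₗ LinearMap.inr R (A × R) (LinearMap.ker φ')
  have hγδ : ∀ v : (A × R) × LinearMap.ker φ', (θ₂.symm v).1 = γ v.1 + δ v.2 := by
    intro v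
    have : v = LinearMap.inl R (A × R) (LinearMap.ker φ') v.1 +
        LinearMap.inr R (A × R) (LinearMap.ker φ') v.2 := by simp
    conv_lhs => rw [this, map_add]
    rfl
  have hγ : ∀ (a : A) (c : R), γ (a, c) = α a + c * β e' := by
    intro a c
    show (θ₂.symm ((a, c), 0)).1 = _
    rw [hθ₂symm]
    show p₁' (a, ((0 : LinearMap.ker φ') : B) + c • e') = _
    rw [hp₁', Submodule.coe_zero, zero_add, map_smul, smul_eq_mul]
  set w : A × R := (a₀ - a_m, 1) with hw
  have hγw : γ w = 1 := by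
    rw [hw, hγ, map_sub, one_mul, he', map_add, ha_m, ← h1]
    ring
  let fγ : R →ₗ[R] A × R := LinearMap.toSpanSingleton R (A × R) w
  have hfγ : γ ∘ₗ fγ = LinearMap.id := by
    apply LinearMap.ext
    intro c
    simp [fγ, LinearMap.toSpanSingleton_apply, hγw]
  have hfinA₁ : Module.Finite R (LinearMap.ker γ) := finite_ker fγ γ hfγ
  have hsfA₁ : Module.IsStablyFree R (LinearMap.ker γ) := by
    have : Module.IsStablyFree R (A × R) := isStablyFree_prod R
    exact isStablyFree_of_prod_equiv (retractEquiv fγ γ hfγ).symm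
  -- the isomorphism `P ≃ ker γ × Q`
  let G : P →ₗ[R] (A × R) × LinearMap.ker φ' := θ₂.toLinearMap ∘ₗ LinearMap.inr R R P
  let G₁ : P →ₗ[R] A × R :=
    LinearMap.fst R _ _ ∘ₗ G + fγ ∘ₗ δ ∘ₗ LinearMap.snd R _ _ ∘ₗ G
  have hG₁ : ∀ y, G₁ y ∈ LinearMap.ker γ := by
    intro y
    have h2 := hγδ (θ₂ (0, y))
    rw [LinearEquiv.symm_apply_apply] at h2
    rw [LinearMap.mem_ker]
    simp only [G₁, G, LinearMap.add_apply, LinearMap.coe_comp, LinearEquiv.coe_coe,
      Function.comp_apply, LinearMap.inr_apply, LinearMap.fst_apply, LinearMap.snd_apply,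
      map_add, fγ, LinearMap.toSpanSingleton_apply, map_smul, hγw, smul_eq_mul, mul_one]
    exact h2.symm
  let F : P →ₗ[R] LinearMap.ker γ × LinearMap.ker φ' :=
    (G₁.codRestrict (LinearMap.ker γ) hG₁).prod (LinearMap.snd R _ _ ∘ₗ G)
  let H : LinearMap.ker γ × LinearMap.ker φ' →ₗ[R] P :=
    LinearMap.snd R R P ∘ₗ θ₂.symm.toLinearMap ∘ₗ
      (((LinearMap.ker γ).subtype ∘ₗ LinearMap.fst R _ _ - fγ ∘ₗ δ ∘ₗ LinearMap.snd R _ _).prod
        (LinearMap.snd R _ _))
  have hHF : H ∘ₗ F = LinearMap.id := by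
    apply LinearMap.ext
    intro y
    simp only [H, F, G₁, G, LinearMap.coe_comp, LinearEquiv.coe_coe, Function.comp_apply,
      LinearMap.prod_apply, Function.prod_apply, LinearMap.codRestrict_apply, LinearMap.sub_apply,
      LinearMap.fst_apply, LinearMap.snd_apply, Submodule.subtype_apply, LinearMap.add_apply,
      LinearMap.inr_apply, add_sub_cancel_right, Prod.mk.eta, LinearEquiv.symm_apply_apply,
      LinearMap.id_coe, id_eq]
  have hFH : F ∘ₗ H = LinearMap.id := by
    apply LinearMap.ext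
    rintro ⟨k, q⟩
    set u := θ₂.symm ((k : A × R) - δ q • w, q) with hu
    have hu1 : u.1 = 0 := by
      rw [hu, hγδ]
      simp only [map_sub, map_smul, hγw, smul_eq_mul, mul_one]
      have : γ (k : A × R) = 0 := k.2
      rw [this]; ring
    have hu2 : θ₂ (0, u.2) = ((k : A × R) - δ q • w, q) := by
      have : ((0 : R), u.2) = u := Prod.ext hu1.symm rfl
      rw [this, hu, LinearEquiv.apply_symm_apply]
    have hH : H (k, q) = u.2 := by
      simp only [H, LinearMap.coe_comp, LinearEquiv.coe_coe, Function.comp_apply,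
        LinearMap.prod_apply, Function.prod_apply, LinearMap.sub_apply, LinearMap.fst_apply,
        LinearMap.snd_apply, Submodule.subtype_apply, fγ, LinearMap.toSpanSingleton_apply, hu]
    rw [LinearMap.comp_apply, hH]
    apply Prod.ext
    · apply Subtype.ext
      simp only [F, G₁, G, LinearMap.prod_apply, Function.prod_apply, LinearMap.codRestrict_apply,
        LinearMap.add_apply, LinearMap.coe_comp, LinearEquiv.coe_coe, Function.comp_apply,
        LinearMap.inr_apply, LinearMap.fst_apply, LinearMap.snd_apply, hu2, fγ,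
        LinearMap.toSpanSingleton_apply, LinearMap.id_coe, id_eq]
      abel
    · simp only [F, G, LinearMap.prod_apply, Function.prod_apply, LinearMap.coe_comp, LinearEquiv.coe_coe,
        Function.comp_apply, LinearMap.inr_apply, LinearMap.snd_apply, hu2, LinearMap.id_coe,
        id_eq]
  refine ⟨LinearMap.ker γ, LinearMap.ker φ', inferInstance, inferInstance, inferInstance,
    inferInstance, hfinA₁, hsfA₁, LinearEquiv.ofLinearMap F H hFH hHF, ?_⟩
  show (θ₂ (0, s)).2 = 0
  exact hθ₂s

/-- regrouping `R^(n+1) × P` as `R × (R^n × P)` -/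
def splitFirst (R : Type u) [CommRing R] (P : Type v) [AddCommGroup P] [Module R P] (n : ℕ) :
    ((Fin (n + 1) → R) × P) ≃ₗ[R] (R × ((Fin n → R) × P)) :=
  (LinearEquiv.prodCongr (Fin.consLinearEquiv R (fun _ : Fin (n + 1) => R)).symm
    (LinearEquiv.refl R P)) ≪≫ₗ LinearEquiv.prodAssoc R R (Fin n → R) P

omit [IsNoetherianRing (R ⧸ (⊥ : Ideal R).jacobson)] in
theorem splitFirst_symm_zero {P : Type v} [AddCommGroup P] [Module R P] (n : ℕ) (s : P) :
    (splitFirst R P n).symm (0, ((0 : Fin n → R), s)) = (0, s) := by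
  rw [LinearEquiv.symm_apply_eq]
  simp only [splitFirst, LinearEquiv.trans_apply, LinearEquiv.prodCongr_apply,
    LinearEquiv.refl_apply, LinearEquiv.prodAssoc_apply]
  have : (Fin.consLinearEquiv R (fun _ : Fin (n + 1) => R)).symm 0 = 0 := map_zero _
  rw [this]
  rfl

theorem step_fin (n : ℕ) : ∀ {P : Type u} [AddCommGroup P] [Module R P] [Module.Projective R P]
    (_ : Big R P) (s : P)
    {A B : Type u} [AddCommGroup A] [Module R A] [AddCommGroup B] [Module R B]
    [Module.Finite R A] [Module.IsStablyFree R A]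
    (θ : ((Fin n → R) × P) ≃ₗ[R] (A × B)) (_ : (θ (0, s)).2 = 0),
    ∃ (A₁ B₁ : Type u) (_ : AddCommGroup A₁) (_ : Module R A₁) (_ : AddCommGroup B₁)
      (_ : Module R B₁) (_ : Module.Finite R A₁) (_ : Module.IsStablyFree R A₁)
      (Ψ : P ≃ₗ[R] (A₁ × B₁)), (Ψ s).2 = 0 := by
  induction n with
  | zero =>
    intro P _ _ _ hB s A B _ _ _ _ _ _ θ hθ
    refine ⟨A, B, inferInstance, inferInstance, inferInstance, inferInstance, inferInstance,
      inferInstance, (LinearEquiv.uniqueProd (R := R) (M := P) (M₂ := Fin 0 → R)).symm ≪≫ₗ θ, ?_⟩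
    rw [LinearEquiv.trans_apply]
    have : (LinearEquiv.uniqueProd (R := R) (M := P) (M₂ := Fin 0 → R)).symm s = (0, s) := by
      rw [LinearEquiv.symm_apply_eq]; rfl
    rw [this]
    exact hθ
  | succ n ih =>
    intro P _ _ _ hB s A B _ _ _ _ _ _ θ hθ
    have hB' : Big R ((Fin n → R) × P) :=
      Big.of_surjective (LinearMap.snd R (Fin n → R) P) (fun y => ⟨(0, y), rfl⟩) hB
    obtain ⟨A₁, B₁, i1, i2, i3, i4, i5, i6, Ψ', hΨ'⟩ :=
      step_one hB' ((0 : Fin n → R), s) ((splitFirst R P n).symm ≪≫ₗ θ)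
        (by rw [LinearEquiv.trans_apply, splitFirst_symm_zero]; exact hθ)
    exact ih hB s Ψ' hΨ'

/-- abstract form: a big projective module splits as `A₁ × B₁` with `A₁` finite stably free
containing (the image of) a given element -/
theorem exists_equiv_stablyFree_prod {P : Type u} [AddCommGroup P] [Module R P]
    [Module.Projective R P] (hB : Big R P) (s : P) :
    ∃ (A₁ B₁ : Type u) (_ : AddCommGroup A₁) (_ : Module R A₁) (_ : AddCommGroup B₁)
      (_ : Module R B₁) (_ : Module.Finite R A₁) (_ : Module.IsStablyFree R A₁)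
      (Ψ : P ≃ₗ[R] (A₁ × B₁)), (Ψ s).2 = 0 := by
  obtain ⟨n, K, K', hc, hfree, hfin, hs⟩ := Groth.Agent.S7109.result R P s
  let θ := (Submodule.prodEquivOfIsCompl K K' hc).symm
  have hθ : (θ (0, s)).2 = 0 := by
    have := Submodule.prodEquivOfIsCompl_symm_apply_left K K' hc ⟨(0, s), hs⟩
    show ((Submodule.prodEquivOfIsCompl K K' hc).symm (0, s)).2 = 0
    rw [show ((0 : Fin n → R), s) = ((⟨(0, s), hs⟩ : K) : (Fin n → R) × P) from rfl, this]
  exact step_fin n hB s θ hθ

omit [IsNoetherianRing (R ⧸ (⊥ : Ideal R).jacobson)] in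
/-- a direct factor gives complementary submodules -/
theorem exists_isCompl_of_equiv_prod {P : Type v} [AddCommGroup P] [Module R P]
    {A₁ : Type*} {B₁ : Type*} [AddCommGroup A₁] [Module R A₁] [AddCommGroup B₁] [Module R B₁]
    (Ψ : P ≃ₗ[R] (A₁ × B₁)) :
    IsCompl (LinearMap.ker (LinearMap.snd R A₁ B₁ ∘ₗ Ψ.toLinearMap))
      (LinearMap.range (Ψ.symm.toLinearMap ∘ₗ LinearMap.inr R A₁ B₁)) ∧
    Nonempty (LinearMap.ker (LinearMap.snd R A₁ B₁ ∘ₗ Ψ.toLinearMap) ≃ₗ[R] A₁) := by
  let g : P →ₗ[R] B₁ := LinearMap.snd R A₁ B₁ ∘ₗ Ψ.toLinearMap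
  let f : B₁ →ₗ[R] P := Ψ.symm.toLinearMap ∘ₗ LinearMap.inr R A₁ B₁
  have hgf : g ∘ₗ f = LinearMap.id := LinearMap.ext fun b => by simp [g, f]
  let F : LinearMap.ker g →ₗ[R] A₁ :=
    LinearMap.fst R A₁ B₁ ∘ₗ Ψ.toLinearMap ∘ₗ (LinearMap.ker g).subtype
  let H : A₁ →ₗ[R] LinearMap.ker g :=
    (Ψ.symm.toLinearMap ∘ₗ LinearMap.inl R A₁ B₁).codRestrict (LinearMap.ker g)
      (fun a => by simp [g])
  have hH : ∀ a, ((H a : LinearMap.ker g) : P) = Ψ.symm (a, 0) := fun a => rfl
  have hF : ∀ x : LinearMap.ker g, F x = (Ψ (x : P)).1 := fun x => rfl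
  have hFH : F ∘ₗ H = LinearMap.id := by
    apply LinearMap.ext
    intro a
    rw [LinearMap.comp_apply, hF, hH, LinearEquiv.apply_symm_apply]
    rfl
  have hHF : H ∘ₗ F = LinearMap.id := by
    apply LinearMap.ext
    intro x
    apply Subtype.ext
    have hx : (Ψ (x : P)).2 = 0 := x.2
    rw [LinearMap.comp_apply, hH, hF, LinearMap.id_apply]
    have : ((Ψ (x : P)).1, (0 : B₁)) = Ψ (x : P) := Prod.ext rfl hx.symm
    rw [this, LinearEquiv.symm_apply_apply]
  exact ⟨isCompl_ker_range f g hgf, ⟨LinearEquiv.ofLinearMap F H hFH hHF⟩⟩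

/-- **Bass**: in a big projective module every element lies in a finite stably free direct
summand. -/
theorem exists_finite_stablyFree_summand_of_big {P : Type u} [AddCommGroup P] [Module R P]
    [Module.Projective R P] (hB : Big R P) (s : P) :
    ∃ (K K' : Submodule R P), IsCompl K K' ∧ Module.Finite R K ∧ Module.IsStablyFree R K ∧
      s ∈ K := by
  obtain ⟨A₁, B₁, _, _, _, _, _, _, Ψ, hΨ⟩ := exists_equiv_stablyFree_prod hB s
  obtain ⟨hc, ⟨eK⟩⟩ := exists_isCompl_of_equiv_prod Ψ
  exact ⟨_, _, hc, Module.Finite.equiv eK.symm, Module.IsStablyFree.equiv eK.symm, hΨ⟩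

theorem exists_finite_stablyFree_summand {P : Type u} [AddCommGroup P] [Module R P]
    [Module.Projective R P]
    (hP : ∀ (m : Ideal R) [m.IsMaximal],
      ¬ Module.Finite (Localization.AtPrime m) (LocalizedModule m.primeCompl P))
    (s : P) :
    ∃ (K K' : Submodule R P), IsCompl K K' ∧ Module.Finite R K ∧ Module.IsStablyFree R K ∧
      s ∈ K :=
  exists_finite_stablyFree_summand_of_big (big_of_not_finite hP) s

end step

end Groth.Agent.Helper9.BigProj
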