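import Mathlib
import Groth.Agent.Lib.Helper9.BigProj.Summand

/-!
# Countably generated big projective modules are free (Bass)
-/

namespace Groth.Agent.Helper9.BigProj

open Groth.Agent.Helper9.BasicElt

universe u v

variable {R : Type u} [CommRing R]

section retract

variable {P : Type v} [AddCommGroup P] [Module R P]

/-- enlarging a free retract by a unimodular element of the kernel -/
theorem retract_succ {k : ℕ} (f : (Fin k → R) →ₗ[R] P) (g : P →ₗ[R] (Fin k → R))
    (h : g ∘ₗ f = LinearMap.id) (s : LinearMap.ker g) (ψ : LinearMap.ker g →ₗ[R] R)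
    (hψ : ψ s = 1) :
    ∃ (f' : (Fin (k + 1) → R) →ₗ[R] P) (g' : P →ₗ[R] (Fin (k + 1) → R)),
      g' ∘ₗ f' = LinearMap.id := by
  let π := kerProj f g h
  refine ⟨(LinearMap.proj (0 : Fin (k + 1))).smulRight (s : P) +
      f ∘ₗ LinearMap.funLeft R R Fin.succ,
    (Fin.consLinearEquiv R (fun _ : Fin (k + 1) => R)).toLinearMap ∘ₗ (ψ ∘ₗ π).prod g, ?_⟩
  apply LinearMap.ext
  intro c
  funext i
  simp only [LinearMap.coe_comp, LinearEquiv.coe_coe, Function.comp_apply, LinearMap.add_apply,
    LinearMap.smulRight_apply, LinearMap.proj_apply, LinearMap.prod_apply,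
    Fin.consLinearEquiv_apply, map_add, map_smul, LinearMap.id_coe, id_eq]
  have hs : g (s : P) = 0 := s.2
  have hπs : π s = s := kerProj_of_mem f g h s
  have hπf : ∀ y, π (f y) = 0 := kerProj_f f g h
  refine Fin.cases ?_ (fun j => ?_) i
  · simp [hπs, hπf, hψ]
  · simp [hs, retract_apply f g h, LinearMap.funLeft]

end retract

section

variable [IsNoetherianRing (R ⧸ (⊥ : Ideal R).jacobson)]

/-- a big projective module has free direct summands of every finite rank -/
theorem exists_retract_fin_of_big {B : Type v} [AddCommGroup B] [Module R B]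
    [Module.Projective R B] (hB : Big R B) (a : ℕ) :
    ∃ (f : (Fin a → R) →ₗ[R] B) (g : B →ₗ[R] (Fin a → R)), g ∘ₗ f = LinearMap.id := by
  induction a with
  | zero => exact ⟨0, 0, LinearMap.ext fun x => Subsingleton.elim _ _⟩
  | succ k ih =>
    obtain ⟨f, g, h⟩ := ih
    have hproj := projective_ker f g h
    have hbig : Big R (LinearMap.ker g) := by
      apply Big.of_prod_right (A := Fin k → R)
      exact Big.of_surjective
        ((retractEquiv f g h).symm.toLinearMap ∘ₗ
          (LinearEquiv.prodComm R (Fin k → R) (LinearMap.ker g)).toLinearMap)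
        (by
          rw [LinearMap.coe_comp]
          exact (retractEquiv f g h).symm.surjective.comp (LinearEquiv.surjective _)) hB
    obtain ⟨m, -, ψ, hψ⟩ := exists_add_mem_unimodular_of_big hbig (0 : LinearMap.ker g) ⊤
      (by simp)
    exact retract_succ f g h (0 + m) ψ hψ

omit [IsNoetherianRing (R ⧸ (⊥ : Ideal R).jacobson)] in
theorem Big.of_isCompl {P : Type v} [AddCommGroup P] [Module R P] {F C : Submodule R P}
    (hFC : IsCompl F C) (hF : F.FG) (hB : Big R P) : Big R C := by
  have : Module.Finite R F := Module.Finite.iff_fg.mpr hF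
  apply Big.of_prod_right (A := F)
  exact Big.of_surjective (Submodule.prodEquivOfIsCompl F C hFC).toLinearMap
    (Submodule.prodEquivOfIsCompl F C hFC).surjective hB

omit [IsNoetherianRing (R ⧸ (⊥ : Ideal R).jacobson)] in
theorem projective_of_isCompl {P : Type v} [AddCommGroup P] [Module R P] [Module.Projective R P]
    {F C : Submodule R P} (hFC : IsCompl F C) : Module.Projective R C :=
  Module.Projective.of_split C.subtype
    (LinearMap.snd R F C ∘ₗ (Submodule.prodEquivOfIsCompl F C hFC).symm.toLinearMap)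
    (LinearMap.ext fun c => by simp)

/-- abstract form: a big projective module splits as `D' × B'` with `D'` finite free containing
(the image of) a given element -/
theorem exists_equiv_free_prod {B : Type u} [AddCommGroup B] [Module R B]
    [Module.Projective R B] (hB : Big R B) (c : B) :
    ∃ (D' B' : Type u) (_ : AddCommGroup D') (_ : Module R D') (_ : AddCommGroup B')
      (_ : Module R B') (_ : Module.Free R D') (_ : Module.Finite R D')
      (Ψ : B ≃ₗ[R] (D' × B')), (Ψ c).2 = 0 := by
  obtain ⟨A₁, B₁, _, _, _, _, _, _, Ψ, hΨ⟩ := exists_equiv_stablyFree_prod hB c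
  obtain ⟨N, _, _, _, _, hfree⟩ := Module.IsStablyFree.exist_free_prod R A₁
  have hB₁proj : Module.Projective R B₁ :=
    Module.Projective.of_split (Ψ.symm.toLinearMap ∘ₗ LinearMap.inr R A₁ B₁)
      (LinearMap.snd R A₁ B₁ ∘ₗ Ψ.toLinearMap) (LinearMap.ext fun b => by simp)
  have hB₁big : Big R B₁ := by
    apply Big.of_prod_right (A := A₁)
    exact Big.of_surjective Ψ.symm.toLinearMap Ψ.symm.surjective hB
  let a := Fintype.card (Module.Free.ChooseBasisIndex R N)
  let eN : N ≃ₗ[R] (Fin a → R) := (Module.Free.chooseBasis R N).equivFun ≪≫ₗ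
    LinearEquiv.funCongrLeft R R (Fintype.equivFin (Module.Free.ChooseBasisIndex R N)).symm
  obtain ⟨f, g, h⟩ := exists_retract_fin_of_big hB₁big a
  let ρ := retractEquiv f g h
  -- `B ≃ A₁ × B₁ ≃ A₁ × (ker g × R^a) ≃ (A₁ × N) × ker g`
  let Ψ' : B ≃ₗ[R] ((A₁ × N) × LinearMap.ker g) :=
    Ψ ≪≫ₗ (LinearEquiv.prodCongr (LinearEquiv.refl R A₁)
      (ρ ≪≫ₗ (LinearEquiv.prodCongr (LinearEquiv.refl R _) eN.symm) ≪≫ₗ
        LinearEquiv.prodComm R _ _)) ≪≫ₗ
      (LinearEquiv.prodAssoc R A₁ N (LinearMap.ker g)).symm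
  refine ⟨A₁ × N, LinearMap.ker g, inferInstance, inferInstance, inferInstance, inferInstance,
    hfree, inferInstance, Ψ', ?_⟩
  have : Ψ c = ((Ψ c).1, 0) := Prod.ext rfl hΨ
  simp only [Ψ', LinearEquiv.trans_apply]
  rw [this]
  simp [ρ, retractEquiv]
  rfl

/-- one step of the construction: enlarge a finitely generated direct summand `F` by a finite free
piece `D` of the complement so as to capture a given element -/
theorem step_submodule {P : Type u} [AddCommGroup P] [Module R P] [Module.Projective R P]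
    (hB : Big R P) (F C : Submodule R P) (hFC : IsCompl F C) (hF : F.FG) (x : P) :
    ∃ DC : Submodule R P × Submodule R P, DC.1 ≤ C ∧ DC.2 ≤ C ∧ IsCompl (F ⊔ DC.1) DC.2 ∧
      (F ⊔ DC.1).FG ∧ Module.Free R DC.1 ∧ x ∈ F ⊔ DC.1 := by
  have hCproj : Module.Projective R C := projective_of_isCompl hFC
  have hCbig : Big R C := Big.of_isCompl hFC hF hB
  set ac := (Submodule.prodEquivOfIsCompl F C hFC).symm x with hac
  have hx : x = (ac.1 : P) + (ac.2 : P) := by
    have := (Submodule.prodEquivOfIsCompl F C hFC).apply_symm_apply x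
    rw [← hac] at this
    rw [← this, Submodule.coe_prodEquivOfIsCompl']
  obtain ⟨D', B', _, _, _, _, hfree, hfin, Ψ, hΨ⟩ := exists_equiv_free_prod hCbig ac.2
  let iD : D' →ₗ[R] P := C.subtype ∘ₗ Ψ.symm.toLinearMap ∘ₗ LinearMap.inl R D' B'
  let iC : B' →ₗ[R] P := C.subtype ∘ₗ Ψ.symm.toLinearMap ∘ₗ LinearMap.inr R D' B'
  have hiD : ∀ d, iD d = (Ψ.symm (d, 0) : P) := fun d => rfl
  have hiC : ∀ b, iC b = (Ψ.symm (0, b) : P) := fun b => rfl
  have hinjD : Function.Injective iD := by
    intro d d' hdd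
    rw [hiD, hiD] at hdd
    have := Ψ.symm.injective (Subtype.ext hdd)
    exact (Prod.ext_iff.mp this).1
  have hDC : LinearMap.range iD ≤ C := by
    rintro _ ⟨d, rfl⟩
    exact (Ψ.symm (d, 0)).2
  have hC'C : LinearMap.range iC ≤ C := by
    rintro _ ⟨b, rfl⟩
    exact (Ψ.symm (0, b)).2
  have hdisj : Disjoint (LinearMap.range iD) (LinearMap.range iC) := by
    rw [Submodule.disjoint_def]
    rintro z ⟨d, rfl⟩ ⟨b, hb⟩
    rw [hiD, hiC] at hb
    have := Ψ.symm.injective (Subtype.ext hb)
    have hd : d = 0 := ((Prod.ext_iff.mp this).1).symm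
    rw [hd, map_zero]
  have hsup : LinearMap.range iD ⊔ LinearMap.range iC = C := by
    apply le_antisymm (sup_le hDC hC'C)
    intro y hy
    have h1 : (⟨y, hy⟩ : C) = Ψ.symm ((Ψ ⟨y, hy⟩).1, 0) + Ψ.symm (0, (Ψ ⟨y, hy⟩).2) := by
      rw [← map_add]
      simp
    have h2 : y = iD (Ψ ⟨y, hy⟩).1 + iC (Ψ ⟨y, hy⟩).2 := by
      rw [hiD, hiC, ← Submodule.coe_add, ← h1]
    rw [h2]
    exact Submodule.add_mem_sup ⟨_, rfl⟩ ⟨_, rfl⟩
  refine ⟨(LinearMap.range iD, LinearMap.range iC), hDC, hC'C, ⟨?_, ?_⟩, ?_, ?_, ?_⟩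
  · exact hdisj.disjoint_sup_left_of_disjoint_sup_right (by rw [hsup]; exact hFC.disjoint)
  · rw [codisjoint_iff, sup_assoc, hsup]
    exact hFC.sup_eq_top
  · refine Submodule.FG.sup hF ?_
    rw [LinearMap.range_eq_map]
    exact Submodule.FG.map _ Module.Finite.fg_top
  · exact Module.Free.of_equiv (LinearEquiv.ofInjective iD hinjD)
  · rw [hx]
    refine Submodule.add_mem_sup ac.1.2 ⟨(Ψ ac.2).1, ?_⟩
    rw [hiD]
    have : ((Ψ ac.2).1, (0 : B')) = Ψ ac.2 := Prod.ext rfl hΨ.symm
    rw [this, LinearEquiv.symm_apply_apply]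

section final

variable {P : Type u} [AddCommGroup P] [Module R P] [Module.Projective R P]

/-- the state of the construction: a finitely generated direct summand with a chosen complement -/
def St (R : Type u) [CommRing R] (P : Type u) [AddCommGroup P] [Module R P] : Type u :=
  {p : Submodule R P × Submodule R P // IsCompl p.1 p.2 ∧ p.1.FG}

noncomputable def pick (hB : Big R P) (st : St R P) (x : P) : Submodule R P × Submodule R P :=
  Classical.choose (step_submodule hB st.1.1 st.1.2 st.2.1 st.2.2 x)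

theorem pick_spec (hB : Big R P) (st : St R P) (x : P) :
    (pick hB st x).1 ≤ st.1.2 ∧ (pick hB st x).2 ≤ st.1.2 ∧
      IsCompl (st.1.1 ⊔ (pick hB st x).1) (pick hB st x).2 ∧
      (st.1.1 ⊔ (pick hB st x).1).FG ∧ Module.Free R (pick hB st x).1 ∧
      x ∈ st.1.1 ⊔ (pick hB st x).1 :=
  Classical.choose_spec (step_submodule hB st.1.1 st.1.2 st.2.1 st.2.2 x)

noncomputable def seq (hB : Big R P) (x : ℕ → P) : ℕ → St R P
  | 0 => ⟨(⊥, ⊤), isCompl_bot_top, Submodule.fg_bot⟩
  | n + 1 => ⟨((seq hB x n).1.1 ⊔ (pick hB (seq hB x n) (x n)).1, (pick hB (seq hB x n) (x n)).2),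
      (pick_spec hB (seq hB x n) (x n)).2.2.1, (pick_spec hB (seq hB x n) (x n)).2.2.2.1⟩

/-- **Bass**: a countably generated big projective module is free -/
theorem free_of_big_of_countable (hB : Big R P) (x : ℕ → P)
    (hx : Submodule.span R (Set.range x) = ⊤) : Module.Free R P := by
  classical
  set F : ℕ → Submodule R P := fun n => (seq hB x n).1.1 with hF
  set C : ℕ → Submodule R P := fun n => (seq hB x n).1.2 with hC
  set D : ℕ → Submodule R P := fun n => (pick hB (seq hB x n) (x n)).1 with hD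
  have hFsucc : ∀ n, F (n + 1) = F n ⊔ D n := fun n => rfl
  have hFC : ∀ n, IsCompl (F n) (C n) := fun n => (seq hB x n).2.1
  have hDC : ∀ n, D n ≤ C n := fun n => (pick_spec hB (seq hB x n) (x n)).1
  have hCsucc : ∀ n, C (n + 1) ≤ C n := fun n => (pick_spec hB (seq hB x n) (x n)).2.1
  have hfree : ∀ n, Module.Free R (D n) := fun n => (pick_spec hB (seq hB x n) (x n)).2.2.2.2.1
  have hxF : ∀ n, x n ∈ F (n + 1) := fun n => (pick_spec hB (seq hB x n) (x n)).2.2.2.2.2
  have hFmono : Monotone F := monotone_nat_of_le_succ fun n => by rw [hFsucc]; exact le_sup_left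
  have hCanti : Antitone C := antitone_nat_of_succ_le hCsucc
  have hindep : iSupIndep D := by
    rw [iSupIndep_def]
    intro i
    have hle : (⨆ (j) (_ : j ≠ i), D j) ≤ F i ⊔ C (i + 1) := by
      refine iSup₂_le fun j hj => ?_
      rcases lt_or_gt_of_ne hj with hlt | hgt
      · refine le_sup_of_le_left ?_
        calc D j ≤ F (j + 1) := by rw [hFsucc]; exact le_sup_right
          _ ≤ F i := hFmono hlt
      · refine le_sup_of_le_right ?_
        calc D j ≤ C j := hDC j
          _ ≤ C (i + 1) := hCanti hgt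
    refine Disjoint.mono_right hle ?_
    have h1 : Disjoint (D i) (F i) := ((hFC i).disjoint.mono_right (hDC i)).symm
    have h2 : Disjoint (D i ⊔ F i) (C (i + 1)) := by
      rw [sup_comm, ← hFsucc]
      exact (hFC (i + 1)).disjoint
    exact h1.disjoint_sup_right_of_disjoint_sup_left h2
  have hFle : ∀ n, F n ≤ ⨆ i, D i := by
    intro n
    induction n with
    | zero => exact bot_le
    | succ n ih => rw [hFsucc]; exact sup_le ih (le_iSup D n)
  have htop : (⨆ i, D i) = ⊤ := by
    rw [eq_top_iff, ← hx, Submodule.span_le]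
    rintro _ ⟨n, rfl⟩
    exact hFle (n + 1) (hxF n)
  have hint := DirectSum.isInternal_submodule_of_iSupIndep_of_iSup_eq_top hindep htop
  exact Module.Free.of_equiv (LinearEquiv.ofBijective (DirectSum.coeLinearMap D) hint)

end final

end

end Groth.Agent.Helper9.BigProj
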